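import Groth.Prelude.Def_W4c3degenlocivbPfaff
import Mathlib.RingTheory.MvPolynomial.Homogeneous
import Mathlib.LinearAlgebra.Matrix.NonsingularInverse
import Mathlib.Tactic

/-!
Sub-Pfaffians of a general skew matrix of linear forms in two variables.
-/

set_option autoImplicit false
universe u

open MvPolynomial W4c3degenlocivb

namespace Groth.L14.Deg

theorem pf_map {R S : Type*} [CommRing R] [CommRing S] (f : R →+* S) :
    ∀ (n : ℕ) (T : Matrix (Fin n) (Fin n) R), f (pf n T) = pf n (T.map f)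
  | 0, _ => map_one f
  | 1, _ => map_zero f
  | n + 2, T => by
    simp only [pf, map_sum, map_mul, map_pow, map_neg, map_one, Matrix.map_apply]
    exact Finset.sum_congr rfl fun j _ => by rw [pf_map f n, Matrix.submatrix_map]

theorem pf_isHomogeneous {k σ : Type*} [CommRing k] :
    ∀ (n : ℕ) (T : Matrix (Fin (2 * n)) (Fin (2 * n)) (MvPolynomial σ k)),
      (∀ a b, (T a b).IsHomogeneous 1) → (pf (2 * n) T).IsHomogeneous n
  | 0, _, _ => isHomogeneous_one σ k
  | n + 1, T, h => by
    show (pf (2 * n + 2) T).IsHomogeneous (n + 1)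
    simp only [pf]
    refine IsHomogeneous.sum _ _ _ fun j _ => ?_
    have h1 := ((isHomogeneous_one σ k).neg.pow ((j : ℕ) + 1)).mul (h (Fin.last _) (Fin.castSucc j))
    have h2 := h1.mul (pf_isHomogeneous n (T.submatrix _ _) fun a b => h (Fin.castSucc (j.succAbove a)) (Fin.castSucc (j.succAbove b)))
    convert h2 using 1
    · rfl
    · omega

theorem pf_step {R : Type*} [CommRing R] (m : ℕ) (hm : Even m) (T : Matrix (Fin (m + 2)) (Fin (m + 2)) R)
    (hs : ∀ a b, T a b = -T b a) (ht : ∀ a b : Fin (m + 2), a.1 + 1 < b.1 → T a b = 0) :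
    pf (m + 2) T = T (Fin.castSucc (Fin.last m)) (Fin.last (m + 1)) *
      pf m (T.submatrix (fun x => Fin.castSucc (Fin.castSucc x)) (fun x => Fin.castSucc (Fin.castSucc x))) := by
  simp only [pf]
  rw [Finset.sum_eq_single (Fin.last m)]
  · rw [hs (Fin.last _) _, Fin.succAbove_last, Fin.val_last, Odd.neg_one_pow hm.add_one]
    simp only [neg_mul_neg, one_mul]
    rfl
  · intro j _ hj
    have hz : T (Fin.castSucc j) (Fin.last (m + 1)) = 0 := ht _ _ (by
      have : j.1 ≠ m := fun h => hj (Fin.ext h)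
      have := j.2
      simp only [Fin.val_castSucc, Fin.val_last]
      omega)
    rw [hs (Fin.last _) _, hz, neg_zero, mul_zero, zero_mul]
  · intro h; exact absurd (Finset.mem_univ _) h

/-- The Pfaffian of a tridiagonal alternating matrix is the product of every other entry above the diagonal. -/
theorem pf_tridiag {R : Type*} [CommRing R] :
    ∀ (n : ℕ) (T : Matrix (Fin (2 * n)) (Fin (2 * n)) R),
      (∀ a b, T a b = -T b a) → (∀ a b : Fin (2 * n), a.1 + 1 < b.1 → T a b = 0) →
      pf (2 * n) T = ∏ s : Fin n, T ⟨2 * s.1, by omega⟩ ⟨2 * s.1 + 1, by omega⟩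
  | 0, _, _, _ => by simp [pf]
  | n + 1, T, hs, ht => by
    have h1 := pf_step (2 * n) (even_two_mul n) T hs ht
    have h2 := pf_tridiag n (T.submatrix (fun x => Fin.castSucc (Fin.castSucc x)) fun x => Fin.castSucc (Fin.castSucc x))
      (fun a b => hs _ _) (fun a b hab => ht _ _ hab)
    refine h1.trans ((congrArg _ h2).trans ?_)
    refine (mul_comm _ _).trans ?_
    exact (Fin.prod_univ_castSucc fun s : Fin (n + 1) =>
      T ⟨2 * s.1, by omega⟩ ⟨2 * s.1 + 1, by omega⟩).symm

variable (k : Type u) [CommRing k] (r : ℕ)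

/-- The matrix of linear forms. -/
noncomputable def lmat (c : Fin (2 * r + 1) → Fin (2 * r + 1) → Fin 2 → k) :
    Matrix (Fin (2 * r + 1)) (Fin (2 * r + 1)) (MvPolynomial (Fin 2) k) :=
  Matrix.of fun a b => ∑ l : Fin 2, C (c a b l) * X l

/-- A sub-Pfaffian. -/
noncomputable def sub (c : Fin (2 * r + 1) → Fin (2 * r + 1) → Fin 2 → k) (i : Fin (2 * r + 1)) :
    MvPolynomial (Fin 2) k :=
  pf (2 * r) ((lmat k r c).submatrix i.succAbove i.succAbove)

/-- The exponent of `X 0 ^ s * X 1 ^ (r - s)`. -/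
noncomputable def expo (s : Fin (r + 1)) : Fin 2 →₀ ℕ := Finsupp.single 0 s.1 + Finsupp.single 1 (r - s.1)

/-- The coefficient matrix of the even sub-Pfaffians. -/
noncomputable def cmat (c : Fin (2 * r + 1) → Fin (2 * r + 1) → Fin 2 → k) : Matrix (Fin (r + 1)) (Fin (r + 1)) k :=
  Matrix.of fun t s => coeff (expo r s) (sub k r c ⟨2 * t.1, by omega⟩)

theorem sub_isHomogeneous (c : Fin (2 * r + 1) → Fin (2 * r + 1) → Fin 2 → k) (i : Fin (2 * r + 1)) :
    (sub k r c i).IsHomogeneous r :=
  pf_isHomogeneous r _ fun a b => IsHomogeneous.sum Finset.univ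
    (fun l : Fin 2 => C (c (i.succAbove a) (i.succAbove b) l) * X l) _ fun _ _ => isHomogeneous_C_mul_X _ _

theorem expo_apply (s : Fin (r + 1)) : expo r s 0 = s.1 ∧ expo r s 1 = r - s.1 := by simp [expo]

theorem eq_sum_expo {p : MvPolynomial (Fin 2) k} (hp : p.IsHomogeneous r) :
    p = ∑ s : Fin (r + 1), monomial (expo r s) (coeff (expo r s) p) := by
  refine MvPolynomial.ext _ _ fun v => ?_
  simp only [coeff_sum, coeff_monomial]
  by_cases hv : Finsupp.degree v = r
  · rw [Finsupp.degree_eq_sum, Fin.sum_univ_two] at hv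
    have he : expo r ⟨v 0, by omega⟩ = v := Finsupp.ext fun i => by
      fin_cases i <;> simp [expo]; omega
    rw [Finset.sum_eq_single ⟨v 0, by omega⟩]
    · rw [if_pos he, he]
    · intro b _ hb
      rw [if_neg fun h => hb (Fin.ext (show b.1 = v 0 by rw [← h, (expo_apply r b).1]))]
    · intro h; exact absurd (Finset.mem_univ _) h
  · rw [hp.coeff_eq_zero hv]
    refine (Finset.sum_eq_zero fun b _ => ?_).symm
    rw [if_neg fun (h : expo r b = v) => hv ?_]
    rw [← h, Finsupp.degree_eq_sum, Fin.sum_univ_two, (expo_apply r b).1, (expo_apply r b).2]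
    omega

/-- The universal coefficient matrix. -/
noncomputable def Phi : MvPolynomial (Fin (2 * r + 1) × Fin (2 * r + 1) × Fin 2) k :=
  (cmat (MvPolynomial (Fin (2 * r + 1) × Fin (2 * r + 1) × Fin 2) k) r fun a b l => X (a, b, l)).det

theorem eval_Phi (c : Fin (2 * r + 1) → Fin (2 * r + 1) → Fin 2 → k) :
    eval (fun p => c p.1 p.2.1 p.2.2) (Phi k r) = (cmat k r c).det := by
  rw [Phi, RingHom.map_det]
  congr 1
  refine Matrix.ext fun t s => ?_
  simp only [RingHom.mapMatrix_apply, Matrix.map_apply, cmat, Matrix.of_apply]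
  rw [← coeff_map, sub, pf_map, sub]
  congr 2
  refine Matrix.ext fun a b => ?_
  simp only [Matrix.map_apply, Matrix.submatrix_apply, lmat, Matrix.of_apply, map_sum, map_mul, map_C, map_X, eval_X]

/-- The tridiagonal example. -/
def ex0 (a b : Fin (2 * r + 1)) (l : Fin 2) : k :=
  (if b.1 = a.1 + 1 ∧ a.1 % 2 = l.1 then 1 else 0) - (if a.1 = b.1 + 1 ∧ b.1 % 2 = l.1 then 1 else 0)

theorem ex0_skew (a b : Fin (2 * r + 1)) (l : Fin 2) : ex0 k r b a l = -ex0 k r a b l := by simp [ex0]

theorem sub_ex0 (t : Fin (r + 1)) :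
    sub k r (ex0 k r) ⟨2 * t.1, by omega⟩ = monomial (expo r t) 1 := by
  have hup : ∀ a b : Fin (2 * r + 1), b.1 = a.1 + 1 → lmat k r (ex0 k r) a b =
      if a.1 % 2 = 0 then X 0 else X 1 := fun a b h => by
    simp only [lmat, Matrix.of_apply, Fin.sum_univ_two, ex0]
    rcases Nat.mod_two_eq_zero_or_one a.1 with h0 | h0 <;> simp [h, h0, show ¬ a.1 = a.1 + 1 + 1 by omega]
  rw [sub, pf_tridiag r]
  · let f : ℕ → MvPolynomial (Fin 2) k := fun s => if s < t.1 then X 0 else X 1
    have hf : ∀ s : Fin r, ((lmat k r (ex0 k r)).submatrix (Fin.succAbove (⟨2 * t.1, by omega⟩ : Fin (2 * r + 1)))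
        (Fin.succAbove (⟨2 * t.1, by omega⟩ : Fin (2 * r + 1)))) ⟨2 * s.1, by omega⟩ ⟨2 * s.1 + 1, by omega⟩ = f s.1 := by
      intro s
      simp only [Matrix.submatrix_apply, f]
      by_cases hst : s.1 < t.1
      · rw [Fin.succAbove_of_castSucc_lt _ _ (by simp [Fin.lt_def]; omega),
          Fin.succAbove_of_castSucc_lt _ _ (by simp [Fin.lt_def]; omega), hup _ _ (by simp), if_pos hst,
          if_pos (by simp)]
      · rw [Fin.succAbove_of_le_castSucc _ _ (by simp [Fin.le_def]; omega),
          Fin.succAbove_of_le_castSucc _ _ (by simp [Fin.le_def]; omega), hup _ _ (by simp), if_neg hst,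
          if_neg (by simp)]
    rw [Finset.prod_congr rfl fun s _ => hf s, Fin.prod_univ_eq_prod_range f r,
      ← Finset.prod_range_mul_prod_Ico f (show t.1 ≤ r by omega)]
    have h1 : ∏ s ∈ Finset.range t.1, f s = X 0 ^ t.1 := by
      rw [Finset.prod_congr rfl (g := fun _ => (X 0 : MvPolynomial (Fin 2) k))
        (fun s hs => if_pos (Finset.mem_range.1 hs)), Finset.prod_const, Finset.card_range]
    have h2 : ∏ s ∈ Finset.Ico t.1 r, f s = X 1 ^ (r - t.1) := by
      rw [Finset.prod_congr rfl (g := fun _ => (X 1 : MvPolynomial (Fin 2) k))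
        (fun s hs => if_neg (not_lt.2 (Finset.mem_Ico.1 hs).1)), Finset.prod_const, Nat.card_Ico]
    rw [h1, h2, X_pow_eq_monomial, X_pow_eq_monomial, monomial_mul, one_mul, expo]
  · intro a b
    simp only [Matrix.submatrix_apply, lmat, Matrix.of_apply]
    rw [← Finset.sum_neg_distrib]
    refine Finset.sum_congr rfl fun l _ => ?_
    rw [ex0_skew k r (Fin.succAbove _ b) (Fin.succAbove _ a) l, map_neg, neg_mul]
  · intro a b hab
    simp only [Matrix.submatrix_apply, lmat, Matrix.of_apply]
    refine Finset.sum_eq_zero fun l _ => ?_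
    have h : ((⟨2 * t.1, by omega⟩ : Fin (2 * r + 1)).succAbove a).1 + 1 <
        ((⟨2 * t.1, by omega⟩ : Fin (2 * r + 1)).succAbove b).1 := by
      simp only [Fin.succAbove, Fin.lt_def, Fin.val_castSucc]
      split_ifs <;> simp <;> omega
    simp only [ex0]
    rw [if_neg (fun h' => by omega), if_neg (fun h' => by omega), sub_zero, map_zero, zero_mul]

theorem main {K : Type u} [Field K] :
    ∃ Φ : MvPolynomial (Fin (2 * r + 1) × Fin (2 * r + 1) × Fin 2) K,
      (∃ c : Fin (2 * r + 1) → Fin (2 * r + 1) → Fin 2 → K, (∀ i j l, c j i l = -c i j l) ∧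
        eval (fun p => c p.1 p.2.1 p.2.2) Φ ≠ 0) ∧
      ∀ c : Fin (2 * r + 1) → Fin (2 * r + 1) → Fin 2 → K, (∀ i j l, c j i l = -c i j l) →
        eval (fun p => c p.1 p.2.1 p.2.2) Φ ≠ 0 →
        Submodule.span K (Set.range fun i : Fin (2 * r + 1) =>
            pf (2 * r) ((Matrix.of fun a b => ∑ l : Fin 2, C (c a b l) * X l).submatrix i.succAbove i.succAbove)) =
          homogeneousSubmodule (Fin 2) K r := by
  classical
  refine ⟨Phi K r, ⟨ex0 K r, ex0_skew K r, ?_⟩, fun c _ hc => le_antisymm (Submodule.span_le.2 ?_) fun p hp => ?_⟩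
  · rw [eval_Phi, show cmat K r (ex0 K r) = 1 from Matrix.ext fun t s => ?_, Matrix.det_one]
    · exact one_ne_zero
    · rw [cmat, Matrix.of_apply, sub_ex0, coeff_monomial, Matrix.one_apply]
      by_cases h : t = s
      · rw [if_pos (by rw [h]), if_pos h]
      · rw [if_neg fun h' => h (Fin.ext (by rw [← (expo_apply r t).1, h', (expo_apply r s).1])), if_neg h]
  · rintro _ ⟨i, rfl⟩
    exact sub_isHomogeneous K r c i
  · rw [eval_Phi] at hc
    have hmon : ∀ s, monomial (expo r s) (1 : K) ∈
        Submodule.span K (Set.range fun i : Fin (2 * r + 1) => sub K r c i) := by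
      intro s
      have hu : IsUnit (cmat K r c).det := isUnit_iff_ne_zero.2 hc
      have : monomial (expo r s) (1 : K) = ∑ t, (cmat K r c)⁻¹ s t • sub K r c ⟨2 * t.1, by omega⟩ := by
        have hexp : ∀ t : Fin (r + 1), sub K r c ⟨2 * t.1, by omega⟩ =
            ∑ s, cmat K r c t s • monomial (expo r s) (1 : K) := fun t => by
          conv_lhs => rw [eq_sum_expo K r (sub_isHomogeneous K r c _)]
          exact Finset.sum_congr rfl fun s _ => by rw [smul_monomial, smul_eq_mul, mul_one]; rfl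
        simp only [hexp, Finset.smul_sum, smul_smul]
        rw [Finset.sum_comm]
        simp only [← Finset.sum_smul, ← Matrix.mul_apply, Matrix.nonsing_inv_mul _ hu, Matrix.one_apply, ite_smul,
          one_smul, zero_smul]
        rw [Finset.sum_ite_eq, if_pos (Finset.mem_univ _)]
      rw [this]
      exact Submodule.sum_mem _ fun t _ => Submodule.smul_mem _ _ (Submodule.subset_span ⟨_, rfl⟩)
    rw [eq_sum_expo K r hp]
    refine Submodule.sum_mem _ fun s _ => ?_
    rw [show monomial (expo r s) (coeff (expo r s) p) = coeff (expo r s) p • monomial (expo r s) (1 : K) by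
      rw [smul_monomial, smul_eq_mul, mul_one]]
    exact Submodule.smul_mem _ _ (hmon s)

end Groth.L14.Deg
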